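import Mathlib

/-! Finite groups with a Sylow 2-subgroup that is a Klein four-group: classes of involutions. -/

set_option autoImplicit false

open scoped Pointwise

namespace Cfsg.Agent.Lib.Invol

variable {G : Type*} [Group G] [Finite G]

theorem klein_data (P : Subgroup G) (hP : IsKleinFour P) :
    ∃ a b c : G, a ∈ P ∧ b ∈ P ∧ c ∈ P ∧ orderOf a = 2 ∧ orderOf b = 2 ∧ orderOf c = 2 ∧ a ≠ b ∧ a ≠ c ∧ b ≠ c ∧
      ∀ x ∈ P, x = 1 ∨ x = a ∨ x = b ∨ x = c := by
  classical
  cases nonempty_fintype P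
  have hcard : Fintype.card P = 4 := IsKleinFour.card_four'
  have hc2 : Fintype.card P = 4 := hcard
  obtain ⟨a, ha⟩ : ∃ a : P, a ≠ 1 := by
    have : Nontrivial P := by
      rw [← Fintype.one_lt_card_iff_nontrivial]
      omega
    exact exists_ne 1
  obtain ⟨b, hb1, hb2⟩ : ∃ b : P, b ≠ 1 ∧ b ≠ a := by
    have h : ({1, a} : Finset P).card < (Finset.univ : Finset P).card := by
      rw [Finset.card_univ, hcard]
      exact lt_of_le_of_lt (Finset.card_le_two) (by norm_num)
    obtain ⟨b, _, hb⟩ := Finset.exists_mem_notMem_of_card_lt_card h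
    simp only [Finset.mem_insert, Finset.mem_singleton, not_or] at hb
    exact ⟨b, hb.1, hb.2⟩
  have hab : a ≠ b := fun h => hb2 h.symm
  have huniv := IsKleinFour.eq_finset_univ ha hb1 hab
  have hsq : ∀ x : P, x * x = 1 := IsKleinFour.mul_self
  have hc1 : a * b ≠ 1 := by
    intro h
    apply hab
    have h2 : a * b = a * a := by rw [h, hsq]
    exact (mul_left_cancel h2).symm
  have hca : a * b ≠ a := by
    intro h
    exact hb1 (by simpa using h)
  have hcb : a * b ≠ b := by
    intro h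
    exact ha (by simpa using h)
  have hord : ∀ x : P, x ≠ 1 → orderOf (x : G) = 2 := by
    intro x hx
    rw [Subgroup.orderOf_coe]
    exact orderOf_eq_prime (by rw [sq, hsq]) hx
  have hval : ∀ x y : P, x ≠ y → (x : G) ≠ y := fun x y h h2 => h (Subtype.ext h2)
  refine ⟨a, b, ((a * b : P) : G), a.2, b.2, (a * b).2, hord a ha, hord b hb1, hord _ hc1, hval _ _ hab,
    hval _ _ hca.symm, hval _ _ hcb.symm, ?_⟩
  intro x hx
  have hmem : (⟨x, hx⟩ : P) ∈ ({a * b, a, b, 1} : Finset P) := by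
    rw [huniv]
    exact Finset.mem_univ _
  simp only [Finset.mem_insert, Finset.mem_singleton] at hmem
  rcases hmem with h | h | h | h
  · right; right; right
    exact congrArg Subtype.val h
  · right; left
    exact congrArg Subtype.val h
  · right; right; left
    exact congrArg Subtype.val h
  · left
    exact congrArg Subtype.val h

/-- every element of 2-power order is conjugate into a Sylow subgroup -/
theorem exists_conj_mem_sylow (P : Sylow 2 G) {t : G} (ht : orderOf t = 2) :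
    ∃ g : G, g⁻¹ * t * g ∈ (P : Subgroup G) := by
  haveI : Fact (Nat.Prime 2) := ⟨Nat.prime_two⟩
  have h : IsPGroup 2 (Subgroup.zpowers t) := by
    apply IsPGroup.of_card (n := 1)
    rw [Nat.card_zpowers, ht, pow_one]
  obtain ⟨Q, hQ⟩ := h.exists_le_sylow
  obtain ⟨g, rfl⟩ := MulAction.exists_smul_eq G P Q
  refine ⟨g, ?_⟩
  have h2 : t ∈ ((g • P : Sylow 2 G) : Subgroup G) := hQ (Subgroup.mem_zpowers t)
  rw [Sylow.coe_subgroup_smul] at h2
  have h3 : t ∈ (MulAut.conj g • (P : Subgroup G)) := h2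
  rw [Subgroup.mem_pointwise_smul_iff_inv_smul_mem] at h3
  simpa [MulAut.smul_def, map_inv, MulAut.conj_inv_apply] using h3

/-- conjugation by a power of `g` swaps two elements swapped by `g` -/
private theorem swap_pow {g a b : G} (h1 : g⁻¹ * a * g = b) (h2 : g⁻¹ * b * g = a) (k : ℕ) :
    (Even k → (g ^ k)⁻¹ * a * g ^ k = a ∧ (g ^ k)⁻¹ * b * g ^ k = b) ∧
    (Odd k → (g ^ k)⁻¹ * a * g ^ k = b ∧ (g ^ k)⁻¹ * b * g ^ k = a) := by
  induction k with
  | zero =>
    refine ⟨fun _ => by simp, fun h => ?_⟩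
    exact absurd h (by simp)
  | succ k ih =>
    have e1 : ∀ x : G, (g ^ (k + 1))⁻¹ * x * g ^ (k + 1) = g⁻¹ * ((g ^ k)⁻¹ * x * g ^ k) * g := by
      intro x
      rw [pow_succ, mul_inv_rev]
      group
    constructor
    · intro he
      have hk : Odd k := by
        rcases Nat.even_or_odd k with h | h
        · exact absurd he (by simp [Nat.even_add_one, h])
        · exact h
      obtain ⟨h3, h4⟩ := ih.2 hk
      rw [e1, e1, h3, h4, h2, h1]
      exact ⟨rfl, rfl⟩
    · intro ho
      have hk : Even k := by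
        rcases Nat.even_or_odd k with h | h
        · exact h
        · exact absurd ho (by simp [Nat.odd_add_one, h])
      obtain ⟨h3, h4⟩ := ih.1 hk
      rw [e1, e1, h3, h4, h2, h1]
      exact ⟨rfl, rfl⟩

theorem no_swap (P : Sylow 2 G) (hc : IsMulCommutative (P : Subgroup G)) {a b g : G}
    (haP : a ∈ (P : Subgroup G))
    (hg : g ∈ Subgroup.normalizer ((P : Subgroup G) : Set G)) (h1 : g⁻¹ * a * g = b) (h2 : g⁻¹ * b * g = a) :
    a = b := by
  haveI : Fact (Nat.Prime 2) := ⟨Nat.prime_two⟩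
  have hg0 : orderOf g ≠ 0 := (orderOf_pos g).ne'
  obtain ⟨e, k, hk, hord⟩ := Nat.exists_eq_two_pow_mul_odd hg0
  set u := g ^ k with hu
  have huord : u ^ (2 ^ e) = 1 := by
    rw [hu, ← pow_mul, mul_comm, ← hord, pow_orderOf_eq_one]
  have hup : IsPGroup 2 (Subgroup.zpowers u) := by
    rw [IsPGroup.iff_card]
    have : orderOf u ∣ 2 ^ e := orderOf_dvd_of_pow_eq_one huord
    obtain ⟨j, _, hj⟩ := (Nat.dvd_prime_pow Nat.prime_two).mp this
    exact ⟨j, by rw [Nat.card_zpowers, hj]⟩
  have huN : u ∈ Subgroup.normalizer ((P : Subgroup G) : Set G) := Subgroup.pow_mem _ hg k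
  have huP : u ∈ (P : Subgroup G) := by
    have h3 := hup.inf_normalizer_sylow P
    have h4 : u ∈ Subgroup.zpowers u ⊓ Subgroup.normalizer ((P : Subgroup G) : Set G) :=
      ⟨Subgroup.mem_zpowers u, huN⟩
    have h5 : Subgroup.zpowers u ⊓ Subgroup.normalizer ((P : Subgroup G) : Set G) =
        Subgroup.zpowers u ⊓ (P : Subgroup G) := h3
    rw [h5] at h4
    exact h4.2
  obtain ⟨h5, _⟩ := (swap_pow h1 h2 k).2 hk
  have hcomm : u * a = a * u := by
    have := hc.is_comm.comm (⟨u, huP⟩ : (P : Subgroup G)) ⟨a, haP⟩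
    exact congrArg Subtype.val this
  rw [← hu] at h5
  rw [← h5]
  rw [mul_assoc, ← hcomm]
  group

theorem fusion (P : Sylow 2 G) (hc : IsMulCommutative (P : Subgroup G)) {x y : G}
    (hx : x ∈ (P : Subgroup G)) (hy : y ∈ (P : Subgroup G)) (h : IsConj x y) :
    ∃ n ∈ Subgroup.normalizer ((P : Subgroup G) : Set G), n⁻¹ * x * n = y := by
  haveI : Fact (Nat.Prime 2) := ⟨Nat.prime_two⟩
  haveI : IsMulCommutative (P : Subgroup G) := hc
  rw [isConj_iff] at h
  obtain ⟨c, hc'⟩ := h
  have h2 : c * x * c⁻¹ = (c⁻¹)⁻¹ * x * c⁻¹ := by simp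
  rw [h2] at hc'
  have hyP : (c⁻¹)⁻¹ * x * c⁻¹ ∈ (P : Subgroup G) := by rw [hc']; exact hy
  obtain ⟨n, hn, hn2⟩ := Sylow.conj_eq_normalizer_conj_of_mem P x c⁻¹ hx hyP
  exact ⟨n, hn, by rw [← hn2, hc']⟩

/-- the Klein data: three involutions -/
structure KleinData (P : Sylow 2 G) (a b c : G) : Prop where
  ha : a ∈ (P : Subgroup G)
  hb : b ∈ (P : Subgroup G)
  hc : c ∈ (P : Subgroup G)
  oa : orderOf a = 2
  ob : orderOf b = 2
  oc : orderOf c = 2
  hab : a ≠ b
  hac : a ≠ c
  hbc : b ≠ c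
  hall : ∀ x ∈ (P : Subgroup G), x = 1 ∨ x = a ∨ x = b ∨ x = c
  comm : IsMulCommutative (P : Subgroup G)

theorem KleinData.perm1 {P : Sylow 2 G} {a b c : G} (h : KleinData P a b c) : KleinData P b a c :=
  ⟨h.hb, h.ha, h.hc, h.ob, h.oa, h.oc, h.hab.symm, h.hbc, h.hac, fun x hx => by
    rcases h.hall x hx with h1 | h1 | h1 | h1 <;> tauto, h.comm⟩

theorem KleinData.perm2 {P : Sylow 2 G} {a b c : G} (h : KleinData P a b c) : KleinData P a c b :=
  ⟨h.ha, h.hc, h.hb, h.oa, h.oc, h.ob, h.hac, h.hab, h.hbc.symm, fun x hx => by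
    rcases h.hall x hx with h1 | h1 | h1 | h1 <;> tauto, h.comm⟩

theorem exists_kleinData (P : Sylow 2 G) (hP : IsKleinFour (P : Subgroup G)) :
    ∃ a b c : G, KleinData P a b c := by
  obtain ⟨a, b, c, ha, hb, hc, oa, ob, oc, hab, hac, hbc, hall⟩ := klein_data (P : Subgroup G) hP
  exact ⟨a, b, c, ha, hb, hc, oa, ob, oc, hab, hac, hbc, hall, IsKleinFour.isMulCommutative⟩

/-- if `a ~ b` then `a ~ c` -/
theorem KleinData.conj_third {P : Sylow 2 G} {a b c : G} (h : KleinData P a b c) (hc : IsConj a b) :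
    IsConj a c := by
  obtain ⟨n, hn, hnab⟩ := fusion P h.comm h.ha h.hb hc
  have hmem : n⁻¹ * b * n ∈ (P : Subgroup G) := by
    have hn' : n⁻¹ ∈ Subgroup.normalizer ((P : Subgroup G) : Set G) := Subgroup.inv_mem _ hn
    have := (Subgroup.mem_normalizer_iff.mp hn' b).mp h.hb
    simpa using this
  rcases h.hall _ hmem with h1 | h1 | h1 | h1
  · exfalso
    have hb1 : b = 1 := by
      have h2 : b = n * (n⁻¹ * b * n) * n⁻¹ := by group
      rw [h1] at h2
      simpa using h2
    have := h.ob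
    rw [hb1, orderOf_one] at this
    omega
  · exact absurd (no_swap P h.comm h.ha hn hnab h1) h.hab
  · exfalso
    have : a = b := by
      have h2 : n⁻¹ * a * n = n⁻¹ * b * n := by rw [hnab, h1]
      simpa using h2
    exact h.hab this
  · have h2 : IsConj b c := by
      rw [isConj_iff]
      exact ⟨n⁻¹, by simpa using h1⟩
    exact hc.trans h2

theorem KleinData.conj_cases {P : Sylow 2 G} {a b c : G} (h : KleinData P a b c) {t : G} (ht : orderOf t = 2) :
    IsConj a t ∨ IsConj b t ∨ IsConj c t := by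
  obtain ⟨g, hg⟩ := exists_conj_mem_sylow P ht
  have hconj : IsConj t (g⁻¹ * t * g) := by
    rw [isConj_iff]
    exact ⟨g⁻¹, by simp⟩
  rcases h.hall _ hg with h1 | h1 | h1 | h1
  · exfalso
    have h2 : t = g * (g⁻¹ * t * g) * g⁻¹ := by group
    rw [h1] at h2
    have h3 : t = 1 := by simpa using h2
    rw [h3, orderOf_one] at ht
    omega
  · left
    rw [h1] at hconj
    exact hconj.symm
  · right; left
    rw [h1] at hconj
    exact hconj.symm
  · right; right
    rw [h1] at hconj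
    exact hconj.symm

/-- the number of classes, one class case -/
theorem KleinData.card_eq_one {P : Sylow 2 G} {a b c : G} (h : KleinData P a b c) (h1 : IsConj a b) :
    Nat.card {C : ConjClasses G // ∃ t : G, orderOf t = 2 ∧ ConjClasses.mk t = C} = 1 := by
  have h2 : IsConj a c := h.conj_third h1
  rw [Nat.card_eq_one_iff_unique]
  refine ⟨⟨?_⟩, ⟨⟨ConjClasses.mk a, a, h.oa, rfl⟩⟩⟩
  rintro ⟨C, t, ht, rfl⟩ ⟨C', t', ht', rfl⟩
  apply Subtype.ext
  simp only
  rw [ConjClasses.mk_eq_mk_iff_isConj]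
  have key : ∀ s : G, orderOf s = 2 → IsConj a s := by
    intro s hs
    rcases h.conj_cases hs with h3 | h3 | h3
    · exact h3
    · exact h1.trans h3
    · exact h2.trans h3
  exact (key t ht).symm.trans (key t' ht')

/-- the number of classes, three class case -/
theorem KleinData.card_eq_three {P : Sylow 2 G} {a b c : G} (h : KleinData P a b c) (h1 : ¬ IsConj a b)
    (h2 : ¬ IsConj a c) (h3 : ¬ IsConj b c) :
    Nat.card {C : ConjClasses G // ∃ t : G, orderOf t = 2 ∧ ConjClasses.mk t = C} = 3 := by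
  let f : Fin 3 → {C : ConjClasses G // ∃ t : G, orderOf t = 2 ∧ ConjClasses.mk t = C} :=
    ![⟨ConjClasses.mk a, a, h.oa, rfl⟩, ⟨ConjClasses.mk b, b, h.ob, rfl⟩, ⟨ConjClasses.mk c, c, h.oc, rfl⟩]
  have hf : Function.Bijective f := by
    constructor
    · intro i j hij
      have hij' := congrArg Subtype.val hij
      fin_cases i <;> fin_cases j <;> first
        | rfl
        | (exfalso
           simp only [f, Matrix.cons_val_zero, Matrix.cons_val_one, Matrix.cons_val, ConjClasses.mk_eq_mk_iff_isConj,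
             Fin.isValue, Fin.reduceFinMk, Fin.zero_eta, Fin.mk_one] at hij'
           first
             | exact h1 hij'
             | exact h2 hij'
             | exact h3 hij'
             | exact h1 hij'.symm
             | exact h2 hij'.symm
             | exact h3 hij'.symm)
    · rintro ⟨C, t, ht, rfl⟩
      rcases h.conj_cases ht with h4 | h4 | h4
      · exact ⟨0, Subtype.ext (ConjClasses.mk_eq_mk_iff_isConj.mpr h4)⟩
      · exact ⟨1, Subtype.ext (ConjClasses.mk_eq_mk_iff_isConj.mpr h4)⟩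
      · exact ⟨2, Subtype.ext (ConjClasses.mk_eq_mk_iff_isConj.mpr h4)⟩
  rw [← Nat.card_eq_of_bijective f hf]
  simp

end Cfsg.Agent.Lib.Invol
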