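import Cfsg.Agent.Lib.Invol.KleinA5a
import Cfsg.Agent.S0948
import Cfsg.Agent.S0202
import Cfsg.Agent.S0203
import Cfsg.Agent.S0084
import Cfsg.Agent.Lib.Char.ClassSum
import Cfsg.Agent.Lib.Char.DefectZero
import Cfsg.Agent.Lib.Invol.Klein

/-!
# The number of involutions when the centralizers of involutions have a normal four-group
-/

set_option autoImplicit false
set_option linter.unusedSectionVars false
set_option linter.unusedVariables false

namespace Cfsg.Agent.Lib.Invol.KA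

open Subgroup Cfsg Cfsg.Agent.Lib.Char

universe u

variable {G : Type u} [Group G] [Finite G]

theorem ord_conj' (c x : G) : orderOf (c * x * c⁻¹) = orderOf x := by
  have := orderOf_injective (MulAut.conj c).toMonoidHom (MulAut.conj c).injective x
  simpa using this

theorem mul_self_of_ord {u : G} (hu : orderOf u = 2) : u * u = 1 := by
  rw [← pow_two, ← hu]
  exact pow_orderOf_eq_one u

/-- Involutions commuting with an involution commute. -/
theorem KSetup.comm_of_comm {x : G} {V : Subgroup G} (h : KSetup x V)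
    (hone : ∀ s t : G, orderOf s = 2 → orderOf t = 2 → IsConj s t) {z u v : G} (hz : orderOf z = 2)
    (hu : orderOf u = 2) (hv : orderOf v = 2) (huz : u * z = z * u) (hvz : v * z = z * v) :
    u * v = v * u := by
  obtain ⟨g, hg⟩ := isConj_iff.mp (hone x z h.ord hz)
  have key : ∀ w : G, orderOf w = 2 → w * z = z * w → g⁻¹ * w * g ∈ V := by
    intro w hw hwz
    apply h.two _ _ 1
    · rw [pow_one, pow_two]
      calc g⁻¹ * w * g * (g⁻¹ * w * g) = g⁻¹ * (w * w) * g := by group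
        _ = 1 := by rw [mul_self_of_ord hw]; group
    · rw [mem_centralizer_singleton_iff]
      rw [← hg] at hwz
      calc g⁻¹ * w * g * x = g⁻¹ * (w * (g * x * g⁻¹)) * g := by group
        _ = g⁻¹ * ((g * x * g⁻¹) * w) * g := by rw [hwz]
        _ = x * (g⁻¹ * w * g) := by group
  have h1 := h.comm_V _ (key u hu huz) _ (key v hv hvz)
  calc u * v = g * (g⁻¹ * u * g * (g⁻¹ * v * g)) * g⁻¹ := by group
    _ = g * (g⁻¹ * v * g * (g⁻¹ * u * g)) * g⁻¹ := by rw [h1]
    _ = v * u := by group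

/-- Non-commuting involutions have a product of odd order. -/
theorem KSetup.odd_of_not_comm {x : G} {V : Subgroup G} (h : KSetup x V)
    (hone : ∀ s t : G, orderOf s = 2 → orderOf t = 2 → IsConj s t) {u v : G}
    (hu : orderOf u = 2) (hv : orderOf v = 2) (hc : u * v ≠ v * u) : Odd (orderOf (u * v)) := by
  by_contra hodd
  rw [Nat.not_odd_iff_even] at hodd
  obtain ⟨m, hm⟩ := hodd
  set r := u * v with hr
  have huu := mul_self_of_ord hu
  have hvv := mul_self_of_ord hv
  have hrpos : 0 < orderOf r := orderOf_pos r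
  have hm0 : m ≠ 0 := by
    rintro rfl
    omega
  set z := r ^ m with hz
  have hzz : z * z = 1 := by
    rw [hz, ← pow_add, ← hm, pow_orderOf_eq_one]
  have hz1 : z ≠ 1 := pow_ne_one_of_lt_orderOf hm0 (by omega)
  have hzord : orderOf z = 2 := by
    haveI : Fact (Nat.Prime 2) := ⟨Nat.prime_two⟩
    exact orderOf_eq_prime (by rw [pow_two]; exact hzz) hz1
  have hzinv : z⁻¹ = z := inv_eq_of_mul_eq_one_left hzz
  have hrinv : r⁻¹ = v * u := by
    rw [hr, mul_inv_rev, inv_eq_of_mul_eq_one_left hvv, inv_eq_of_mul_eq_one_left huu]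
  have hs1 : SemiconjBy u r⁻¹ r := by
    change u * r⁻¹ = r * u
    rw [hrinv, hr]
    group
  have hs2 : SemiconjBy v r r⁻¹ := by
    change v * r = r⁻¹ * v
    rw [hrinv, hr]
    group
  have hs3 := SemiconjBy.pow_right hs1 m
  have hs4 := SemiconjBy.pow_right hs2 m
  rw [inv_pow, ← hz, hzinv] at hs3 hs4
  exact hc (h.comm_of_comm hone hzord hu hv hs3.eq hs4.eq)

/-- The conjugates of `x`. -/
abbrev KK (x : G) : Type u := {y : G // IsConj x y}

theorem KK.ord {x : G} (hx : orderOf x = 2) (v : KK x) : orderOf (v : G) = 2 := by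
  obtain ⟨g, hg⟩ := isConj_iff.mp v.2
  rw [← hg, ord_conj', hx]

/-- One row of the double sum. -/
theorem KSetup.sum_row {x : G} {V : Subgroup G} (h : KSetup x V)
    (hone : ∀ s t : G, orderOf s = 2 → orderOf t = 2 → IsConj s t) [Fintype (KK x)] (Φ : G → ℂ)
    (hΦc : ∀ a b : G, Φ (a * b * a⁻¹) = Φ b) (hΦo : ∀ y : G, Odd (orderOf y) → Φ y = 0)
    (u : KK x) : ∑ v : KK x, Φ ((u : G) * v) = 2 * Φ x := by
  classical
  obtain ⟨a, b, c, ha, hb, hc, oa, ob, oc, hab, hac, hbc, hall⟩ :=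
    Cfsg.Agent.Lib.Invol.klein_data V h.klein
  -- the other two involutions
  obtain ⟨y, z, hy, hz, oy, oz, hxy, hxz, hyz, hall'⟩ : ∃ y z : G, y ∈ V ∧ z ∈ V ∧ orderOf y = 2 ∧
      orderOf z = 2 ∧ x ≠ y ∧ x ≠ z ∧ y ≠ z ∧ ∀ w ∈ V, w = 1 ∨ w = x ∨ w = y ∨ w = z := by
    rcases hall x h.x_mem with e | e | e | e
    · exact absurd e h.x_ne_one
    · subst e
      exact ⟨b, c, hb, hc, ob, oc, hab, hac, hbc, hall⟩
    · subst e
      refine ⟨a, c, ha, hc, oa, oc, hab.symm, hbc, hac, fun w hw => ?_⟩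
      rcases hall w hw with e | e | e | e <;> simp [e]
    · subst e
      refine ⟨a, b, ha, hb, oa, ob, hac.symm, hbc.symm, hab, fun w hw => ?_⟩
      rcases hall w hw with e | e | e | e <;> simp [e]
  have hxx := h.mul_self
  have hxyV : x * y ∈ V := V.mul_mem h.x_mem hy
  have hxzV : x * z ∈ V := V.mul_mem h.x_mem hz
  have hyy := mul_self_of_ord oy
  have hzz := mul_self_of_ord oz
  have hcxy := h.comm_V _ h.x_mem _ hy
  have hcxz := h.comm_V _ h.x_mem _ hz
  have o2 : ∀ w ∈ V, w ≠ 1 → orderOf w = 2 := by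
    intro w hw hw1
    haveI : Fact (Nat.Prime 2) := ⟨Nat.prime_two⟩
    exact orderOf_eq_prime (h.sq_of_mem hw) hw1
  have hinv : x⁻¹ = x := inv_eq_of_mul_eq_one_left hxx
  have hxy1 : x * y ≠ 1 := by
    intro e
    apply hxy
    rw [eq_inv_of_mul_eq_one_right e, hinv]
  have hxz1 : x * z ≠ 1 := by
    intro e
    apply hxz
    rw [eq_inv_of_mul_eq_one_right e, hinv]
  have hval : ∀ w ∈ V, w ≠ 1 → Φ w = Φ x := by
    intro w hw hw1
    obtain ⟨c, hc⟩ := isConj_iff.mp (hone x w h.ord (o2 w hw hw1))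
    rw [← hc, hΦc]
  obtain ⟨g, hg⟩ := isConj_iff.mp u.2
  have hconjy : IsConj x (g * y * g⁻¹) :=
    (hone x y h.ord oy).trans (isConj_iff.mpr ⟨g, rfl⟩)
  have hconjz : IsConj x (g * z * g⁻¹) :=
    (hone x z h.ord oz).trans (isConj_iff.mpr ⟨g, rfl⟩)
  have hne : (⟨g * y * g⁻¹, hconjy⟩ : KK x) ≠ ⟨g * z * g⁻¹, hconjz⟩ := by
    intro e
    have e' : g * y * g⁻¹ = g * z * g⁻¹ := congrArg Subtype.val e
    apply hyz
    simpa using e'
  have hconjval : ∀ w : G, Φ (g * x * g⁻¹ * (g * w * g⁻¹)) = Φ (x * w) := by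
    intro w
    rw [show g * x * g⁻¹ * (g * w * g⁻¹) = g * (x * w) * g⁻¹ by group, hΦc]
  rw [Finset.sum_eq_add (⟨g * y * g⁻¹, hconjy⟩ : KK x) (⟨g * z * g⁻¹, hconjz⟩ : KK x) hne]
  · simp only
    rw [← hg, hconjval, hconjval, hval _ hxyV hxy1, hval _ hxzV hxz1]
    ring
  · rintro ⟨c, hc⟩ - ⟨hc1, hc2⟩
    have hcord : orderOf c = 2 := KK.ord h.ord ⟨c, hc⟩
    have huord : orderOf (u : G) = 2 := KK.ord h.ord u
    by_cases hcomm : (u : G) * c = c * u
    · -- `c` is one of `u`, `y'`, `z'`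
      have hmem : g⁻¹ * c * g ∈ V := by
        apply h.two _ _ 1
        · rw [pow_one, pow_two]
          calc g⁻¹ * c * g * (g⁻¹ * c * g) = g⁻¹ * (c * c) * g := by group
            _ = 1 := by rw [mul_self_of_ord hcord]; group
        · rw [mem_centralizer_singleton_iff]
          rw [← hg] at hcomm
          calc g⁻¹ * c * g * x = g⁻¹ * (c * (g * x * g⁻¹)) * g := by group
            _ = g⁻¹ * ((g * x * g⁻¹) * c) * g := by rw [hcomm]
            _ = x * (g⁻¹ * c * g) := by group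
      have hcback : c = g * (g⁻¹ * c * g) * g⁻¹ := by group
      rcases hall' _ hmem with e | e | e | e
      · exfalso
        rw [e] at hcback
        have : c = 1 := by rw [hcback]; group
        rw [this, orderOf_one] at hcord
        omega
      · simp only
        rw [e] at hcback
        rw [hcback, ← hg, show g * x * g⁻¹ * (g * x * g⁻¹) = g * (x * x) * g⁻¹ by group, hxx]
        simp only [mul_one, mul_inv_cancel]
        exact hΦo 1 (by simp)
      · exfalso
        rw [e] at hcback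
        exact hc1 (Subtype.ext hcback)
      · exfalso
        rw [e] at hcback
        exact hc2 (Subtype.ext hcback)
    · exact hΦo _ (h.odd_of_not_comm hone huord hcord hcomm)
  · exact fun hn => absurd (Finset.mem_univ _) hn
  · exact fun hn => absurd (Finset.mem_univ _) hn

/-- The double sum over `x^G`. -/
theorem KSetup.sum_double {x : G} {V : Subgroup G} (h : KSetup x V)
    (hone : ∀ s t : G, orderOf s = 2 → orderOf t = 2 → IsConj s t) [Fintype (KK x)] (Φ : G → ℂ)
    (hΦc : ∀ a b : G, Φ (a * b * a⁻¹) = Φ b) (hΦo : ∀ y : G, Odd (orderOf y) → Φ y = 0) :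
    ∑ u : KK x, ∑ v : KK x, Φ ((u : G) * v) = (Nat.card (KK x) : ℂ) * (2 * Φ x) := by
  classical
  simp only [h.sum_row hone Φ hΦc hΦo, Finset.sum_const, Finset.card_univ, nsmul_eq_mul,
    Nat.card_eq_fintype_card]

/-- The double sum of an irreducible character. -/
theorem sum_double_irr {x : G} [Fintype (KK x)] {χ : G → ℂ} (hχ : IsIrrCharacter G χ) :
    χ 1 * ∑ u : KK x, ∑ v : KK x, χ ((u : G) * v) = (Nat.card (KK x) : ℂ) ^ 2 * χ x ^ 2 := by
  classical
  letI : Fintype G := Fintype.ofFinite G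
  have hcl : ∀ v : KK x, χ (v : G) = χ x := by
    intro v
    obtain ⟨g, hg⟩ := isConj_iff.mp v.2
    rw [← hg]
    exact (IsCharacter.isClassFunction (IsIrrCharacter.isCharacter hχ)) _ _
  rw [Finset.sum_comm, Finset.mul_sum]
  have h1 : ∀ v : KK x, χ 1 * ∑ u : KK x, χ ((u : G) * v) = (Nat.card (KK x) : ℂ) * χ x * χ x := by
    intro v
    rw [IsIrrCharacter.sum_class_mul hχ x v, hcl]
  simp only [h1, Finset.sum_const, Finset.card_univ, nsmul_eq_mul, Nat.card_eq_fintype_card]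
  ring

/-- The number of involutions is small. -/
theorem KSetup.card_lt {x : G} {V : Subgroup G} (h : KSetup x V) (P : Sylow 2 G)
    (hP : IsKleinFour (P : Subgroup G))
    (hone : ∀ s t : G, orderOf s = 2 → orderOf t = 2 → IsConj s t) : Nat.card (KK x) < 24 := by
  classical
  letI : Fintype (KK x) := Fintype.ofFinite _
  obtain ⟨M, hM⟩ := exists_isPModular Nat.prime_two
  obtain ⟨ζ₂, ζ₃, ζ₄, ε, hε, -, -, -, -, -, -, hval, hd2, hd3, hd4, hrel⟩ :=
    Cfsg.Agent.S0948.result M hM P hP hone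
  set N : ℕ := Nat.card (KK x) with hN
  haveI hne : Nonempty (KK x) := ⟨⟨x, IsConj.refl x⟩⟩
  have hNpos : 0 < N := Nat.card_pos
  have hNc : (N : ℂ) ≠ 0 := by exact_mod_cast hNpos.ne'
  obtain ⟨v2, v3, v4⟩ := hval x h.ord
  have hεsq : (ε : ℂ) * (ε : ℂ) = 1 := by
    rcases hε with rfl | rfl <;> simp
  set a : ℕ := charDegree (ζ₂ : G → ℂ) with ha
  set b : ℕ := charDegree (ζ₃ : G → ℂ) with hb
  set c : ℕ := charDegree (ζ₄ : G → ℂ) with hc
  have ha0 : 0 < a := charDegree_pos ζ₂.2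
  have hb0 : 0 < b := charDegree_pos ζ₃.2
  have hc0 : 0 < c := charDegree_pos ζ₄.2
  have ea : (ζ₂ : G → ℂ) 1 = a := apply_one_eq_charDegree (IsIrrCharacter.isCharacter ζ₂.2)
  have eb : (ζ₃ : G → ℂ) 1 = b := apply_one_eq_charDegree (IsIrrCharacter.isCharacter ζ₃.2)
  have ec : (ζ₄ : G → ℂ) 1 = c := apply_one_eq_charDegree (IsIrrCharacter.isCharacter ζ₄.2)
  -- the class function vanishing on elements of odd order
  let Φ : G → ℂ := fun y => 1 + (ζ₂ : G → ℂ) y + (ε : ℂ) * (ζ₃ : G → ℂ) y - (ζ₄ : G → ℂ) y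
  have hΦc : ∀ a b : G, Φ (a * b * a⁻¹) = Φ b := by
    intro s t
    simp only [Φ]
    rw [(IsCharacter.isClassFunction (IsIrrCharacter.isCharacter ζ₂.2)) t s,
      (IsCharacter.isClassFunction (IsIrrCharacter.isCharacter ζ₃.2)) t s,
      (IsCharacter.isClassFunction (IsIrrCharacter.isCharacter ζ₄.2)) t s]
  have hΦo : ∀ y : G, Odd (orderOf y) → Φ y = 0 := hrel
  have hΦx : Φ x = 4 := by
    simp only [Φ]
    rw [v2, v3, v4, hεsq]
    norm_num
  have hd := h.sum_double hone Φ hΦc hΦo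
  rw [hΦx, ← hN] at hd
  set S2 : ℂ := ∑ u : KK x, ∑ v : KK x, (ζ₂ : G → ℂ) ((u : G) * v) with hS2
  set S3 : ℂ := ∑ u : KK x, ∑ v : KK x, (ζ₃ : G → ℂ) ((u : G) * v) with hS3
  set S4 : ℂ := ∑ u : KK x, ∑ v : KK x, (ζ₄ : G → ℂ) ((u : G) * v) with hS4
  have hsplit : ∑ u : KK x, ∑ v : KK x, Φ ((u : G) * v) = (N : ℂ) ^ 2 + S2 + (ε : ℂ) * S3 - S4 := by
    simp only [Φ, Finset.sum_sub_distrib, Finset.sum_add_distrib, Finset.sum_const,
      Finset.card_univ, nsmul_eq_mul, ← Finset.mul_sum, hN, Nat.card_eq_fintype_card]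
    simp only [hS2, hS3, hS4]
    ring_nf
  have e2 := sum_double_irr (x := x) ζ₂.2
  have e3 := sum_double_irr (x := x) ζ₃.2
  have e4 := sum_double_irr (x := x) ζ₄.2
  rw [ea, v2, ← hN] at e2
  rw [eb, v3, ← hN] at e3
  rw [ec, v4, ← hN] at e4
  rw [hsplit] at hd
  have hmain : (N : ℂ) * ((a : ℂ) * b * c + b * c + ε * a * c - a * b) = 8 * a * b * c := by
    apply mul_left_cancel₀ hNc
    have hε2 : (ε : ℂ) ^ 2 = 1 := by rw [pow_two]; exact hεsq
    rw [hε2] at e3
    linear_combination (a : ℂ) * b * c * hd - (b : ℂ) * c * e2 - (ε : ℂ) * a * c * e3 + (a : ℂ) * b * e4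
  have hint : (N : ℤ) * ((a : ℤ) * b * c + b * c + ε * a * c - a * b) = 8 * a * b * c := by
    exact_mod_cast hmain
  -- bounds
  have hc3 : 3 ≤ (c : ℤ) := by
    obtain ⟨k, hk⟩ := hd4
    have : (0 : ℤ) < c := by exact_mod_cast hc0
    omega
  have ha1 : 1 ≤ (a : ℤ) := by exact_mod_cast ha0
  have hb1 : 1 ≤ (b : ℤ) := by exact_mod_cast hb0
  by_contra hge
  have hN24 : (24 : ℤ) ≤ N := by
    have : 24 ≤ N := by omega
    exact_mod_cast this
  rcases hε with rfl | rfl
  · -- `ε = 1`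
    have hE : 0 < (a : ℤ) * b * c + b * c + 1 * a * c - a * b := by
      have h1 : (a : ℤ) * b * 3 ≤ a * b * c := by
        apply mul_le_mul_of_nonneg_left hc3 (by positivity)
      have h2 : 0 < (a : ℤ) * b := by positivity
      have h3 : 0 < (b : ℤ) * c := by positivity
      have h4 : 0 < (a : ℤ) * c := by positivity
      linarith
    have h1 : 24 * ((a : ℤ) * b * c + b * c + 1 * a * c - a * b) ≤ 8 * a * b * c := by
      rw [← hint]
      exact mul_le_mul_of_nonneg_right hN24 hE.le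
    have h2 : (a : ℤ) * b * 3 ≤ a * b * c := by
      apply mul_le_mul_of_nonneg_left hc3 (by positivity)
    have h3 : 0 < (a : ℤ) * b := by positivity
    have h4 : 0 < (b : ℤ) * c := by positivity
    have h5 : 0 < (a : ℤ) * c := by positivity
    nlinarith
  · -- `ε = -1`
    have hb3 : 3 ≤ (b : ℤ) := by
      obtain ⟨k, hk⟩ := hd3
      have : (0 : ℤ) < b := by exact_mod_cast hb0
      omega
    obtain ⟨p, hp⟩ : ∃ p : ℤ, (b : ℤ) = 3 + p := ⟨b - 3, by ring⟩
    obtain ⟨q, hq⟩ : ∃ q : ℤ, (c : ℤ) = 3 + q := ⟨c - 3, by ring⟩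
    have hp0 : 0 ≤ p := by omega
    have hq0 : 0 ≤ q := by omega
    have hapos : 0 ≤ (a : ℤ) := by omega
    have hpq : 0 ≤ p * q := mul_nonneg hp0 hq0
    have hap : 0 ≤ (a : ℤ) * p := mul_nonneg hapos hp0
    have haq : 0 ≤ (a : ℤ) * q := mul_nonneg hapos hq0
    have hapq : 0 ≤ (a : ℤ) * (p * q) := mul_nonneg hapos hpq
    have hE : 0 < (a : ℤ) * b * c + b * c + ((-1 : ℤ)) * a * c - a * b := by
      rw [hp, hq]
      nlinarith
    have h1 : 24 * ((a : ℤ) * b * c + b * c + ((-1 : ℤ)) * a * c - a * b) ≤ 8 * a * b * c := by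
      rw [← hint]
      exact mul_le_mul_of_nonneg_right hN24 hE.le
    rw [hp, hq] at h1
    nlinarith

end Cfsg.Agent.Lib.Invol.KA
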