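import Cfsg.Agent.S0111
import Cfsg.Agent.Lib.Transfer.MaxClass2
import Cfsg.Prelude.Def_Blocks

/-!
# Involutions with a normal four-group as Sylow subgroup of the centralizer: reduction to the case
that the four-group is a Sylow subgroup of the group.
-/

set_option autoImplicit false
set_option linter.unusedSectionVars false
set_option linter.unusedVariables false

namespace Cfsg.Agent.Lib.Invol.KA

open Subgroup

universe u

variable {G : Type u} [Group G] [Finite G]

/-- The situation of the theorem. -/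
structure KSetup (x : G) (V : Subgroup G) : Prop where
  ord : orderOf x = 2
  le : V ≤ centralizer ({x} : Set G)
  klein : IsKleinFour V
  two : ∀ g ∈ centralizer ({x} : Set G), ∀ k : ℕ, g ^ (2 ^ k) = 1 → g ∈ V

theorem two_of_normal {x : G} {V : Subgroup G} (hle : V ≤ centralizer ({x} : Set G))
    (hodd : ¬ 2 ∣ V.relIndex (centralizer ({x} : Set G)))
    (hn : (V.subgroupOf (centralizer ({x} : Set G))).Normal) :
    ∀ g ∈ centralizer ({x} : Set G), ∀ k : ℕ, g ^ (2 ^ k) = 1 → g ∈ V := by
  intro g hg k hk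
  set C := centralizer ({x} : Set G) with hC
  haveI := hn
  set q : C ⧸ V.subgroupOf C := QuotientGroup.mk (⟨g, hg⟩ : C) with hq
  have h1 : q ^ (2 ^ k) = 1 := by
    rw [hq, ← QuotientGroup.mk_pow]
    have : (⟨g, hg⟩ : C) ^ (2 ^ k) = 1 := Subtype.ext (by simpa using hk)
    rw [this]
    rfl
  have h2 : q ^ Nat.card (C ⧸ V.subgroupOf C) = 1 := pow_card_eq_one'
  have hcard : Nat.card (C ⧸ V.subgroupOf C) = V.relIndex C := rfl
  have hcop : Nat.Coprime (2 ^ k) (Nat.card (C ⧸ V.subgroupOf C)) := by
    apply Nat.Coprime.pow_left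
    rw [hcard]
    exact (Nat.Prime.coprime_iff_not_dvd Nat.prime_two).mpr hodd
  have h3 : orderOf q ∣ 1 := by
    have := Nat.dvd_gcd (orderOf_dvd_of_pow_eq_one h1) (orderOf_dvd_of_pow_eq_one h2)
    rwa [hcop] at this
  have h4 : q = 1 := orderOf_eq_one_iff.mp (Nat.dvd_one.mp h3)
  have h5 : (⟨g, hg⟩ : C) ∈ V.subgroupOf C := (QuotientGroup.eq_one_iff _).mp h4
  exact Subgroup.mem_subgroupOf.mp h5

theorem KSetup.card_V {x : G} {V : Subgroup G} (h : KSetup x V) : Nat.card V = 4 :=
  haveI := h.klein
  IsKleinFour.card_four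

theorem KSetup.isPGroup_V {x : G} {V : Subgroup G} (h : KSetup x V) : IsPGroup 2 V :=
  IsPGroup.of_card (n := 2) (by rw [h.card_V]; norm_num)

theorem KSetup.comm_V {x : G} {V : Subgroup G} (h : KSetup x V) :
    ∀ a ∈ V, ∀ b ∈ V, a * b = b * a := by
  haveI := h.klein
  have hab : IsMulCommutative V :=
    IsPGroup.isMulCommutative_of_card_eq_prime_sq (p := 2) (by rw [h.card_V]; norm_num)
  intro a ha b hb
  exact congrArg Subtype.val (hab.is_comm.comm ⟨a, ha⟩ ⟨b, hb⟩)

theorem KSetup.x_mem {x : G} {V : Subgroup G} (h : KSetup x V) : x ∈ V := by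
  apply h.two x _ 1
  · rw [pow_one, ← h.ord]
    exact pow_orderOf_eq_one x
  · rw [mem_centralizer_singleton_iff]

theorem KSetup.x_ne_one {x : G} {V : Subgroup G} (h : KSetup x V) : x ≠ 1 := by
  rintro rfl
  have := h.ord
  simp at this

theorem KSetup.mul_self {x : G} {V : Subgroup G} (h : KSetup x V) : x * x = 1 := by
  rw [← pow_two, ← h.ord]
  exact pow_orderOf_eq_one x

theorem KSetup.sq_of_mem {x : G} {V : Subgroup G} (h : KSetup x V) {v : G} (hv : v ∈ V) :
    v ^ 2 = 1 := by
  haveI := h.klein
  have h1 := Monoid.pow_exponent_eq_one (⟨v, hv⟩ : V)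
  rw [IsKleinFour.exponent_two] at h1
  exact congrArg Subtype.val h1

/-- Every `2`-element commuting with `x` lies in `V`: for a `2`-group. -/
theorem KSetup.mem_of_pgroup {x : G} {V : Subgroup G} (h : KSetup x V) {T : Subgroup G}
    (hT : IsPGroup 2 T) {s : G} (hs : s ∈ T) (hc : s * x = x * s) : s ∈ V := by
  obtain ⟨k, hk⟩ := hT ⟨s, hs⟩
  apply h.two s _ k (by simpa using congrArg Subtype.val hk)
  rw [mem_centralizer_singleton_iff]
  exact hc

theorem KSetup.not_central [IsSimpleGroup G] {x : G} {V : Subgroup G} (h : KSetup x V) :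
    ¬ ∀ g : G, g * x = x * g := by
  intro hc
  have hn : (zpowers x).Normal := by
    constructor
    intro n hn g
    obtain ⟨k, rfl⟩ := mem_zpowers_iff.mp hn
    have h1 : g * x ^ k * g⁻¹ = x ^ k := by
      have : Commute g (x ^ k) := (Commute.zpow_right (hc g) k)
      rw [this.eq]
      group
    rw [h1]
    exact zpow_mem (mem_zpowers x) k
  rcases hn.eq_bot_or_eq_top with h1 | h1
  · exact h.x_ne_one (zpowers_eq_bot.mp h1)
  · have h2 : Nat.card (zpowers x) = 2 := by rw [Nat.card_zpowers, h.ord]
    rw [h1, Subgroup.card_top] at h2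
    have h3 : Nat.card V ∣ Nat.card G := Subgroup.card_subgroup_dvd_card V
    rw [h.card_V, h2] at h3
    omega

theorem KSetup.no_index_two [IsSimpleGroup G] {x : G} {V : Subgroup G} (h : KSetup x V)
    {M : Subgroup G} (hM : M.Normal) (hi : M.index = 2) : False := by
  rcases hM.eq_bot_or_eq_top with h1 | h1
  · rw [h1, Subgroup.index_bot] at hi
    have h3 : Nat.card V ∣ Nat.card G := Subgroup.card_subgroup_dvd_card V
    rw [h.card_V, hi] at h3
    omega
  · rw [h1, Subgroup.index_top] at hi
    omega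

/-- In a cyclic group there is at most one involution. -/
theorem eq_of_cyclic {D : Type*} [Group D] [Finite D] [IsCyclic D] {a b : D} (ha : a ^ 2 = 1)
    (hb : b ^ 2 = 1) (ha1 : a ≠ 1) (hb1 : b ≠ 1) : a = b := by
  classical
  letI := Fintype.ofFinite D
  by_contra hab
  have h1 := IsCyclic.card_pow_eq_one_le (α := D) (n := 2) (by norm_num)
  have h2 : ({1, a, b} : Finset D) ⊆ Finset.univ.filter (fun y : D => y ^ 2 = 1) := by
    intro y hy
    simp only [Finset.mem_insert, Finset.mem_singleton] at hy
    rcases hy with rfl | rfl | rfl <;> simp [ha, hb]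
  have h3 : ({1, a, b} : Finset D).card = 3 := by
    rw [Finset.card_eq_three]
    exact ⟨1, a, b, ha1.symm, hb1.symm, hab, rfl⟩
  have h4 := Finset.card_le_card h2
  omega

/-- `V` is a Sylow `2`-subgroup. -/
theorem KSetup.exists_sylow [IsSimpleGroup G] {x : G} {V : Subgroup G} (h : KSetup x V) :
    ∃ P : Sylow 2 G, (P : Subgroup G) = V := by
  classical
  haveI hf2 : Fact (Nat.Prime 2) := ⟨Nat.prime_two⟩
  obtain ⟨T, hVT⟩ := h.isPGroup_V.exists_le_sylow
  refine ⟨T, ?_⟩
  by_contra hne
  have hTp : IsPGroup 2 (T : Subgroup G) := T.isPGroup'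
  -- cardinalities
  have hcardlt : 4 < Nat.card (T : Subgroup G) := by
    by_contra hle
    apply hne
    symm
    apply Subgroup.eq_of_le_of_card_ge hVT
    rw [h.card_V]
    omega
  obtain ⟨n, hn⟩ := IsPGroup.iff_card.mp hTp
  have hn3 : 3 ≤ n := by
    by_contra hlt
    have : n ≤ 2 := by omega
    have h1 : 2 ^ n ≤ 2 ^ 2 := Nat.pow_le_pow_right (by norm_num) this
    rw [hn] at hcardlt
    omega
  let X : Type u := ((T : Subgroup G) : Type u)
  let A : Subgroup X := V.subgroupOf (T : Subgroup G)
  have hAcard : Nat.card A = 2 ^ 2 := by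
    have : Nat.card A = Nat.card V := Nat.card_congr (Subgroup.subgroupOfEquivOfLe hVT).toEquiv
    rw [this, h.card_V]
    norm_num
  have hxV := h.x_mem
  have hxT : x ∈ (T : Subgroup G) := hVT hxV
  let xh : X := ⟨x, hxT⟩
  have hxA : xh ∈ A := Subgroup.mem_subgroupOf.mpr hxV
  have hcentA : centralizer (A : Set X) = A := by
    apply le_antisymm
    · intro a ha
      have h1 : xh * a = a * xh := (mem_centralizer_iff.mp ha) xh hxA
      have h2 : x * (a : G) = (a : G) * x := congrArg Subtype.val h1
      exact Subgroup.mem_subgroupOf.mpr (h.mem_of_pgroup hTp a.2 h2.symm)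
    · intro a ha
      rw [mem_centralizer_iff]
      intro b hb
      apply Subtype.ext
      exact h.comm_V _ (Subgroup.mem_subgroupOf.mp hb) _ (Subgroup.mem_subgroupOf.mp ha)
  have hclass := Cfsg.Agent.Lib.Transfer.class_of_self_centralizing (p := 2) n X hn A hAcard hcentA
  obtain ⟨D, hDc, hDi⟩ := Cfsg.Agent.Lib.Transfer.exists_cyclic_index_two n X hn3 hn hclass
  let Q : Subgroup G := D.map (T : Subgroup G).subtype
  have hQT : Q ≤ (T : Subgroup G) := Subgroup.map_subtype_le D
  have hsubQ : Q.subgroupOf (T : Subgroup G) = D := by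
    ext a
    simp [Q, Subgroup.mem_subgroupOf]
  have hQi : Q.relIndex (T : Subgroup G) = 2 := by
    unfold Subgroup.relIndex
    rw [hsubQ, hDi]
  have hDn : D.Normal := Subgroup.normal_of_index_eq_two hDi
  have hDcard : Nat.card D * 2 = Nat.card X := by
    have := Subgroup.card_mul_index D
    rwa [hDi] at this
  -- `x` is outside `Q`
  have hxQ : x ∉ Q := by
    intro hmem
    have hxD : xh ∈ D := by
      have : xh ∈ Q.subgroupOf (T : Subgroup G) := Subgroup.mem_subgroupOf.mpr hmem
      rwa [hsubQ] at this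
    have hDA : D ≤ A := by
      intro d hd
      have hcd : d * xh = xh * d := by
        haveI := hDc
        have := (IsCyclic.commutative (α := D)).is_comm.comm ⟨d, hd⟩ ⟨xh, hxD⟩
        exact congrArg Subtype.val this
      have h2 : (d : G) * x = x * (d : G) := congrArg Subtype.val hcd
      exact Subgroup.mem_subgroupOf.mpr (h.mem_of_pgroup hTp d.2 h2)
    have hle : Nat.card D ≤ Nat.card A := Subgroup.card_le_of_le hDA
    have h8 : 8 ≤ Nat.card X := by
      change 8 ≤ Nat.card (T : Subgroup G)
      rw [hn]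
      calc 8 = 2 ^ 3 := by norm_num
        _ ≤ 2 ^ n := Nat.pow_le_pow_right (by norm_num) hn3
    rw [hAcard] at hle
    have hD4 : Nat.card D = 4 := by omega
    have hDA' : D = A := Subgroup.eq_of_le_of_card_ge hDA (by rw [hAcard, hD4]; norm_num)
    have hcycA : IsCyclic A := hDA' ▸ hDc
    have hcycV : IsCyclic V :=
      isCyclic_of_surjective (Subgroup.subgroupOfEquivOfLe hVT).toMonoidHom
        (Subgroup.subgroupOfEquivOfLe hVT).surjective
    haveI := h.klein
    exact IsKleinFour.not_isCyclic hcycV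
  rcases Cfsg.Agent.S0111.result T Q hQT hQi x h.ord hxT hxQ with ⟨M, hMn, hMi, -⟩ | ⟨g, hg⟩
  · exact h.no_index_two hMn hMi
  · -- the conjugate is central in `T`
    set t : G := g * x * g⁻¹ with ht
    have htT : t ∈ (T : Subgroup G) := hQT hg
    let th : X := ⟨t, htT⟩
    have thD : th ∈ D := by
      have : th ∈ Q.subgroupOf (T : Subgroup G) := Subgroup.mem_subgroupOf.mpr hg
      rwa [hsubQ] at this
    have ht2 : t ^ 2 = 1 := by
      rw [ht, pow_two]
      calc g * x * g⁻¹ * (g * x * g⁻¹) = g * (x * x) * g⁻¹ := by group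
        _ = 1 := by rw [h.mul_self]; group
    have ht1 : t ≠ 1 := by
      intro e
      apply h.x_ne_one
      have : x = g⁻¹ * t * g := by rw [ht]; group
      rw [this, e]
      group
    have hcomm : ∀ s ∈ (T : Subgroup G), s * t = t * s := by
      intro s hs
      let sh : X := ⟨s, hs⟩
      have h1 : sh * th * sh⁻¹ ∈ D := hDn.conj_mem _ thD sh
      haveI : IsCyclic D := hDc
      have h2 := eq_of_cyclic (D := D) (a := ⟨sh * th * sh⁻¹, h1⟩) (b := ⟨th, thD⟩)
        (by
          apply Subtype.ext
          apply Subtype.ext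
          change (s * t * s⁻¹) ^ 2 = 1
          rw [pow_two]
          calc s * t * s⁻¹ * (s * t * s⁻¹) = s * (t * t) * s⁻¹ := by group
            _ = s * (t ^ 2) * s⁻¹ := by rw [pow_two]
            _ = 1 := by rw [ht2]; group)
        (by
          apply Subtype.ext
          apply Subtype.ext
          exact ht2)
        (by
          intro e
          have e' : s * t * s⁻¹ = 1 := congrArg (fun z : D => ((z : X) : G)) e
          apply ht1
          have : t = s⁻¹ * (s * t * s⁻¹) * s := by group
          rw [this, e']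
          group)
        (by
          intro e
          have e' : t = 1 := congrArg (fun z : D => ((z : X) : G)) e
          exact ht1 e')
      have h3 : s * t * s⁻¹ = t := congrArg (fun z : D => ((z : X) : G)) h2
      calc s * t = s * t * s⁻¹ * s := by group
        _ = t * s := by rw [h3]
    -- conjugating `T` back
    have hmap : (T : Subgroup G).map (MulAut.conj g⁻¹).toMonoidHom ≤ V := by
      rintro _ ⟨s, hs, rfl⟩
      have hTp' : IsPGroup 2 ((T : Subgroup G).map (MulAut.conj g⁻¹).toMonoidHom) := hTp.map _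
      apply h.mem_of_pgroup hTp' ⟨s, hs, rfl⟩
      have h1 := hcomm s hs
      rw [ht] at h1
      simp only [MulEquiv.toMonoidHom_eq_coe, MonoidHom.coe_coe, MulAut.conj_apply, inv_inv]
      calc g⁻¹ * s * g * x = g⁻¹ * (s * (g * x * g⁻¹)) * g := by group
        _ = g⁻¹ * ((g * x * g⁻¹) * s) * g := by rw [h1]
        _ = x * (g⁻¹ * s * g) := by group
    have h1 := Subgroup.card_le_of_le hmap
    rw [Subgroup.card_map_of_injective (MulAut.conj g⁻¹).injective, h.card_V] at h1
    omega

end Cfsg.Agent.Lib.Invol.KA
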